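import Groth.Agent.PicCurve.RepDescent

/-!
# The best approximation of a presheaf which is representable over a covering

If `F` is classified over `X` by `V` and the descent data on `V` are effective, a best approximation of `F` by a
scheme over `S` becomes isomorphic to `V` over `X`, through the point of the universal section.
-/

noncomputable section

set_option autoImplicit false
set_option linter.style.haveILetI false
set_option linter.unusedSectionVars false
set_option backward.isDefEq.respectTransparency false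
set_option backward.isDefEq.respectTransparency.types false

universe w u

open CategoryTheory CategoryTheory.Limits AlgebraicGeometry Opposite Desc

namespace Groth.Agent.RepDescent

variable {X S : Scheme.{u}} {p : X ⟶ S} {F : (Over S)ᵒᵖ ⥤ Type w} {V : Over X} {υ : F.obj (op (below p V))}
  (hV : IsUnivOn F V υ) {W : Over S} (e : (toDD p).obj W ≅ dd hV)

/-- the isomorphism over the covering, as a morphism over the base -/
abbrev epsO : cov p W ⟶ below p V := Over.homMk e.hom.hom.left (by
  show e.hom.hom.left ≫ V.hom ≫ p = pullback.snd p W.hom ≫ W.hom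
  rw [← Category.assoc, show e.hom.hom.left ≫ V.hom = pullback.fst p W.hom from Over.w e.hom.hom, pullback.condition])

/-- its inverse -/
abbrev iotaO : below p V ⟶ cov p W := Over.homMk e.inv.hom.left (by
  show e.inv.hom.left ≫ pullback.snd p W.hom ≫ W.hom = V.hom ≫ p
  rw [← pullback.condition, ← Category.assoc,
    show e.inv.hom.left ≫ pullback.fst p W.hom = V.hom from Over.w e.inv.hom])

theorem iotaO_epsO : iotaO hV e ≫ epsO hV e = 𝟙 _ :=
  Over.OverMorphism.ext (congrArg (fun m : dd hV ⟶ dd hV => m.hom.left) e.inv_hom_id)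

theorem epsO_iotaO : epsO hV e ≫ iotaO hV e = 𝟙 _ :=
  Over.OverMorphism.ext (congrArg (fun m : (toDD p).obj W ⟶ (toDD p).obj W => m.hom.left) e.hom_inv_id)

/-- two points of the covering over the same point carry the same section -/
theorem eps_agree {R : Over S} (a b : R ⟶ cov p W) (hab : a ≫ covMap p W = b ≫ covMap p W) :
    F.map (a ≫ epsO hV e).op υ = F.map (b ≫ epsO hV e).op υ := by
  let ε : pullback p W.hom ⟶ V.left := e.hom.hom.left
  have hε : ε ≫ V.hom = pullback.fst p W.hom := Over.w e.hom.hom
  have hs : ∀ c : R ⟶ cov p W, (c.left ≫ pullback.fst p W.hom) ≫ p = R.hom := fun c => by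
    rw [Category.assoc, pullback.condition]
    exact Over.w c
  have hab' : a.left ≫ pullback.snd p W.hom = b.left ≫ pullback.snd p W.hom := congrArg Over.Hom.left hab
  let va : Lifts ((toDD p).obj W).obj (a.left ≫ pullback.fst p W.hom) := ⟨a.left, rfl⟩
  let wa : Lifts V (a.left ≫ pullback.fst p W.hom) := ⟨a.left ≫ ε, by rw [Category.assoc, hε]⟩
  let wb : Lifts V (b.left ≫ pullback.fst p W.hom) := ⟨b.left ≫ ε, by rw [Category.assoc, hε]⟩
  have hc := e.hom.comm (a.left ≫ pullback.fst p W.hom) (b.left ≫ pullback.fst p W.hom)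
    ((hs a).trans (hs b).symm) va wa rfl
  have hb : transport hV (a.left ≫ pullback.fst p W.hom) (b.left ≫ pullback.fst p W.hom)
      ((hs a).trans (hs b).symm) wa = wb := Subtype.ext (hc.trans (congrArg (· ≫ ε)
        (show ((canonicalDD p W).φ (a.left ≫ pullback.fst p W.hom) (b.left ≫ pullback.fst p W.hom)
          ((hs a).trans (hs b).symm) va).1 = b.left from pullback.hom_ext (pullback.lift_fst _ _ _)
            ((pullback.lift_snd _ _ _).trans hab'))))
  have hcl := transport_class hV _ _ R.hom (hs a) (hs b) wa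
  rw [hb] at hcl
  exact (Eq.trans (congrArg (fun m => F.map (Quiver.Hom.op m) υ) (Over.OverMorphism.ext rfl))
    hcl.symm).trans (congrArg (fun m => F.map (Quiver.Hom.op m) υ) (Over.OverMorphism.ext rfl))

/-- `g` classifies the section `c` -/
def Cls {T : Over S} (c : F.obj (op T)) (g : T ⟶ W) : Prop :=
  ∀ (R : Over S) (a : R ⟶ cov p T) (b : R ⟶ cov p W), a ≫ covMap p T ≫ g = b ≫ covMap p W →
    F.map (b ≫ epsO hV e).op υ = F.map (a ≫ covMap p T).op c

/-- the map of coverings -/
abbrev covHom {T : Over S} (g : T ⟶ W) : cov p T ⟶ cov p W :=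
  Over.homMk (pullback.lift (pullback.fst p T.hom) (pullback.snd p T.hom ≫ g.left) (by
      rw [Category.assoc, Over.w g]; exact pullback.condition)) (by
    show pullback.lift (pullback.fst p T.hom) (pullback.snd p T.hom ≫ g.left) _ ≫ pullback.snd p W.hom ≫ W.hom = _
    rw [pullback.lift_snd_assoc, Category.assoc, Over.w g]
    rfl)

theorem covHom_covMap {T : Over S} (g : T ⟶ W) : covHom g ≫ covMap p W = covMap p T ≫ g :=
  Over.OverMorphism.ext (pullback.lift_snd _ _ _)

variable [QuasiCompact p] [Surjective p] [Flat p]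

theorem covMap_cancel {T N : Over S} {a b : T ⟶ N} (h : covMap p T ≫ a = covMap p T ≫ b) : a = b := by
  haveI : QuasiCompact (pullback.snd p T.hom) := inferInstance
  haveI : Surjective (pullback.snd p T.hom) := inferInstance
  haveI : Flat (pullback.snd p T.hom) := inferInstance
  exact Over.OverMorphism.ext ((cancel_epi (pullback.snd p T.hom)).1 (congrArg Over.Hom.left h))

/-- every section is classified by exactly one point -/
theorem existsUnique_cls {T : Over S} (c : F.obj (op T)) : ∃! g : T ⟶ W, Cls hV e c g := by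
  let ε : pullback p W.hom ⟶ V.left := e.hom.hom.left
  let ι : V.left ⟶ pullback p W.hom := e.inv.hom.left
  let x : (cov p T).left ⟶ X := pullback.fst p T.hom
  have hι : ι ≫ pullback.fst p W.hom = V.hom := Over.w e.inv.hom
  obtain ⟨v, ⟨hv1, hv2⟩, hv3⟩ := hV (cov p T) x (pullback.condition) (F.map (covMap p T).op c)
  haveI : QuasiCompact (pullback.snd p T.hom) := inferInstance
  haveI : Surjective (pullback.snd p T.hom) := inferInstance
  haveI : Flat (pullback.snd p T.hom) := inferInstance
  let m' : pullback p T.hom ⟶ W.left := v.left ≫ ι ≫ pullback.snd p W.hom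
  have hdesc : ∀ {Z : Scheme.{u}} (a b : Z ⟶ pullback p T.hom), a ≫ pullback.snd p T.hom = b ≫ pullback.snd p T.hom →
      a ≫ m' = b ≫ m' := by
    intro Z a b hab
    let s : Z ⟶ S := (a ≫ pullback.snd p T.hom) ≫ T.hom
    have h₀ : (a ≫ x) ≫ p = s := by
      rw [Category.assoc, pullback.condition]; exact (Category.assoc _ _ _).symm
    have h₁ : (b ≫ x) ≫ p = s := by
      rw [Category.assoc, pullback.condition]
      exact (Category.assoc _ _ _).symm.trans (congrArg (· ≫ T.hom) hab.symm)
    let va : Lifts V (a ≫ x) := ⟨a ≫ v.left, by rw [Category.assoc, hv1]⟩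
    let vb : Lifts V (b ≫ x) := ⟨b ≫ v.left, by rw [Category.assoc, hv1]⟩
    let aO : Over.mk s ⟶ cov p T := Over.homMk a (Category.assoc _ _ _).symm
    let bO : Over.mk s ⟶ cov p T := Over.homMk b ((Category.assoc _ _ _).symm.trans (congrArg (· ≫ T.hom) hab.symm))
    have hcls : F.map (pO vb s h₁).op υ = F.map (pO va s h₀).op υ := by
      rw [show pO vb s h₁ = bO ≫ v from Over.OverMorphism.ext rfl,
        show pO va s h₀ = aO ≫ v from Over.OverMorphism.ext rfl, op_comp, op_comp,
        Functor.map_comp_apply, Functor.map_comp_apply, hv2, ← Functor.map_comp_apply, ← Functor.map_comp_apply,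
        ← op_comp, ← op_comp, show bO ≫ covMap p T = aO ≫ covMap p T from Over.OverMorphism.ext hab.symm]
    have ht := transport_eq hV _ _ s h₀ h₁ va vb hcls
    let wa : Lifts ((toDD p).obj W).obj (a ≫ x) := ⟨va.1 ≫ ι, by
      show (va.1 ≫ ι) ≫ pullback.fst p W.hom = _
      rw [Category.assoc, hι]; exact va.2⟩
    have hc := e.inv.comm (a ≫ x) (b ≫ x) (h₀.trans h₁.symm) va wa rfl
    have hs2 : ((canonicalDD p W).φ (a ≫ x) (b ≫ x) (h₀.trans h₁.symm) wa).1 ≫ pullback.snd p W.hom =
        wa.1 ≫ pullback.snd p W.hom := pullback.lift_snd _ _ _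
    have hc' : ((canonicalDD p W).φ (a ≫ x) (b ≫ x) (h₀.trans h₁.symm) wa).1 = vb.1 ≫ ι :=
      hc.trans (congrArg (fun z : Lifts V (b ≫ x) => z.1 ≫ ι) ht)
    rw [hc'] at hs2
    simpa [m', va, vb, wa] using hs2.symm
  let m : T.left ⟶ W.left := EffectiveEpi.desc (pullback.snd p T.hom) m' fun a b hab => hdesc a b hab
  have hm : pullback.snd p T.hom ≫ m = m' := EffectiveEpi.fac _ _ _
  have hmS : m ≫ W.hom = T.hom := (cancel_epi (pullback.snd p T.hom)).1 (by
    rw [← Category.assoc, hm]
    simp only [m', Category.assoc]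
    rw [← pullback.condition, reassoc_of% hι, reassoc_of% hv1]
    exact pullback.condition)
  let g : T ⟶ W := Over.homMk m hmS
  have hsq : covMap p T ≫ g = (v ≫ iotaO hV e) ≫ covMap p W :=
    Over.OverMorphism.ext (hm.trans (Category.assoc _ _ _).symm)
  refine ⟨g, fun R a b hab => ?_, fun g₂ hg₂ => covMap_cancel (p := p) ?_⟩
  · rw [eps_agree hV e b (a ≫ v ≫ iotaO hV e) (by rw [← hab, hsq]; simp only [Category.assoc]),
      Category.assoc, Category.assoc, iotaO_epsO, Category.comp_id, op_comp, Functor.map_comp_apply, hv2,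
      ← Functor.map_comp_apply, ← op_comp]
  · have h2 := hg₂ (cov p T) (𝟙 _) (covHom g₂) (by rw [covHom_covMap, Category.id_comp])
    rw [Category.id_comp] at h2
    have h1 : (covHom g₂ ≫ epsO hV e).left ≫ V.hom = x := by
      show (_ ≫ ε) ≫ V.hom = x
      rw [Category.assoc, show ε ≫ V.hom = pullback.fst p W.hom from Over.w e.hom.hom]
      exact pullback.lift_fst _ _ _
    have h3 : covHom g₂ ≫ epsO hV e = v := hv3 _ ⟨h1, h2⟩
    rw [hsq, ← h3, Category.assoc, Category.assoc, reassoc_of% (epsO_iotaO hV e), covHom_covMap]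

include hV e in
/-- the best approximation becomes the classifying scheme over the covering -/
theorem isIso_point {N : Over S} (Φ : ∀ T : Over S, F.obj (op T) → (T ⟶ N))
    (hΦ : ∀ (T T' : Over S) (g : T' ⟶ T) (c : F.obj (op T)), Φ T' (F.map g.op c) = g ≫ Φ T c)
    (hbest : ∀ (N' : Over S) (Φ' : ∀ T : Over S, F.obj (op T) → (T ⟶ N')),
      (∀ (T T' : Over S) (g : T' ⟶ T) (c : F.obj (op T)), Φ' T' (F.map g.op c) = g ≫ Φ' T c) →
      ∃! f : N ⟶ N', ∀ (T : Over S) (c : F.obj (op T)), Φ' T c = Φ T c ≫ f) :
    IsIso (pullback.lift V.hom (Φ (below p V) υ).left (Over.w (Φ (below p V) υ)).symm :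
      V.left ⟶ pullback p N.hom) := by
  let bV : below p V ⟶ N := Φ (below p V) υ
  haveI : QuasiCompact (pullback.snd p W.hom) := inferInstance
  haveI : Surjective (pullback.snd p W.hom) := inferInstance
  haveI : Flat (pullback.snd p W.hom) := inferInstance
  -- the point of the descended scheme
  let δ : ∀ T : Over S, F.obj (op T) → (T ⟶ W) := fun T c => (existsUnique_cls hV e c).choose
  have hδ : ∀ (T : Over S) (c : F.obj (op T)), Cls hV e c (δ T c) := fun T c =>
    (existsUnique_cls hV e c).choose_spec.1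
  have hδu : ∀ (T : Over S) (c : F.obj (op T)) (g : T ⟶ W), Cls hV e c g → g = δ T c := fun T c g hg =>
    (existsUnique_cls hV e c).choose_spec.2 g hg
  have hδn : ∀ (T T' : Over S) (g : T' ⟶ T) (c : F.obj (op T)), δ T' (F.map g.op c) = g ≫ δ T c := by
    intro T T' g c
    refine (hδu T' _ _ fun R a b hab => ?_).symm
    let gc : cov p T' ⟶ cov p T := Over.homMk (pullback.lift (pullback.fst p T'.hom) (pullback.snd p T'.hom ≫ g.left)
      (by rw [Category.assoc, Over.w g]; exact pullback.condition)) (by
      show pullback.lift _ _ _ ≫ pullback.snd p T.hom ≫ T.hom = _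
      rw [pullback.lift_snd_assoc, Category.assoc, Over.w g]
      rfl)
    have hgc : gc ≫ covMap p T = covMap p T' ≫ g := Over.OverMorphism.ext (pullback.lift_snd _ _ _)
    rw [hδ T c R (a ≫ gc) b (by rw [Category.assoc, reassoc_of% hgc]; exact hab), Category.assoc, hgc,
      ← Functor.map_comp_apply, ← op_comp, Category.assoc]
  -- the point of the approximation
  let m : W.left ⟶ N.left := EffectiveEpi.desc (pullback.snd p W.hom) (epsO hV e ≫ bV).left fun {Z} a b hab => by
    let R : Over S := Over.mk ((a ≫ pullback.snd p W.hom) ≫ W.hom)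
    let aO : R ⟶ cov p W := Over.homMk a (Category.assoc _ _ _).symm
    let bO : R ⟶ cov p W := Over.homMk b ((Category.assoc _ _ _).symm.trans (congrArg (· ≫ W.hom) hab.symm))
    have h := congrArg (Φ R) (eps_agree hV e aO bO (Over.OverMorphism.ext hab))
    rw [hΦ, hΦ, Category.assoc, Category.assoc] at h
    exact congrArg Over.Hom.left h
  have hm : pullback.snd p W.hom ≫ m = (epsO hV e ≫ bV).left := EffectiveEpi.fac _ _ _
  let G : W ⟶ N := Over.homMk m ((cancel_epi (pullback.snd p W.hom)).1 (by
    rw [reassoc_of% hm, Over.w (epsO hV e ≫ bV)]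
    rfl))
  have hG : covMap p W ≫ G = epsO hV e ≫ bV := Over.OverMorphism.ext hm
  have hδG : ∀ (T : Over S) (c : F.obj (op T)), Φ T c = δ T c ≫ G := fun T c => covMap_cancel (p := p) (by
    rw [← reassoc_of% (covHom_covMap (δ T c)), hG, ← hΦ, ← Category.assoc,
      ← hΦ]
    exact congrArg _ (by
      rw [hδ T c (cov p T) (𝟙 _) (covHom (δ T c)) (by rw [covHom_covMap, Category.id_comp]), Category.id_comp]))
  obtain ⟨f, hf, -⟩ := hbest W δ hδn
  have hfG : f ≫ G = 𝟙 N := by
    obtain ⟨_, -, hu⟩ := hbest N Φ hΦ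
    rw [hu (f ≫ G) fun T c => by rw [← Category.assoc, ← hf T c, hδG T c],
      ← hu (𝟙 N) fun T c => (Category.comp_id _).symm]
  have hGf : G ≫ f = 𝟙 W := by
    refine covMap_cancel (p := p) ?_
    rw [← Category.assoc, hG, Category.comp_id, Category.assoc, ← hf (below p V) υ, ← hδn]
    refine (hδu _ _ _ fun R a b hab => ?_).symm
    rw [← Functor.map_comp_apply, ← op_comp]
    exact eps_agree hV e b (a ≫ covMap p (cov p W)) hab.symm
  let θ : W ≅ N := ⟨G, f, hGf, hfG⟩
  haveI : IsIso G.left :=
    ⟨f.left, congrArg Over.Hom.left hGf, congrArg Over.Hom.left hfG⟩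
  let κ : pullback p W.hom ⟶ pullback p N.hom :=
    pullback.map p W.hom p N.hom (𝟙 X) G.left (𝟙 S) (by simp) (by rw [Category.comp_id, Over.w G])
  haveI : IsIso κ := inferInstance
  haveI : IsIso e.inv.hom.left :=
    ⟨e.hom.hom.left, congrArg Over.Hom.left (iotaO_epsO hV e), congrArg Over.Hom.left (epsO_iotaO hV e)⟩
  have hfin : pullback.lift V.hom bV.left (Over.w bV).symm = e.inv.hom.left ≫ κ := by
    refine pullback.hom_ext ?_ ?_
    · rw [pullback.lift_fst, Category.assoc, pullback.lift_fst, Category.comp_id]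
      exact (Over.w e.inv.hom).symm
    · rw [pullback.lift_snd, Category.assoc, pullback.lift_snd]
      refine Eq.trans ?_ (congrArg (e.inv.hom.left ≫ ·) hm.symm)
      show bV.left = e.inv.hom.left ≫ e.hom.hom.left ≫ bV.left
      rw [← Category.assoc, show e.inv.hom.left ≫ e.hom.hom.left = 𝟙 _ from congrArg Over.Hom.left (iotaO_epsO hV e)]
      exact (Category.id_comp _).symm
  show IsIso (pullback.lift V.hom bV.left (Over.w bV).symm)
  rw [hfin]
  infer_instance

end Groth.Agent.RepDescent

end
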