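import Groth.Agent.PicCurve.JacCoarse.Fibre
import Groth.Agent.PicCurve.Alb.FineIsJac
import Groth.Agent.FinDesc.BaseChange

/-!
# A coarse Jacobian over an extension of the ground field is a coarse Jacobian
-/

noncomputable section

set_option autoImplicit false
set_option linter.style.haveILetI false
set_option linter.unusedSectionVars false
set_option backward.isDefEq.respectTransparency false
set_option backward.isDefEq.respectTransparency.types false
set_option maxHeartbeats 1000000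
set_option synthInstance.maxHeartbeats 400000
attribute [-instance] CategoryTheory.catToReflQuiver

universe u

open CategoryTheory CategoryTheory.Limits AlgebraicGeometry TopologicalSpace Opposite
  MonoidalCategory CartesianMonoidalCategory
open scoped MonObj CategoryTheory.Obj
open Groth.Agent.H23.PicMul

namespace Groth.Agent.PicCurve.JacCoarse

open RepDescent (below)

variable {k L : Type u} [Field k] [Field L] {X : Scheme.{u}} (f : X ⟶ Spec (CommRingCat.of k))
  (ρ : Spec (CommRingCat.of L) ⟶ Spec (CommRingCat.of k)) {J : Over (Spec (CommRingCat.of k))}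

/-- the base change of a group, on points -/
theorem low_mul [GrpObj J] {T : Over (Spec (CommRingCat.of L))} (a b : T ⟶ (Over.pullback ρ).obj J) :
    Ext.low ρ J (show T ⟶ (Over.pullback ρ).obj J from a * b) = Ext.low ρ J a * Ext.low ρ J b := by
  let u : T ⟶ (Over.pullback ρ).obj (below ρ T) :=
    Over.homMk (pullback.lift (𝟙 T.left) T.hom (by
      show 𝟙 T.left ≫ T.hom ≫ ρ = _
      rw [Category.id_comp])) (pullback.lift_snd _ _ _)
  have hu : ∀ z : below ρ T ⟶ J, Ext.low ρ J (u ≫ (Over.pullback ρ).map z) = z := fun z => by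
    refine Over.OverMorphism.ext ?_
    show ((pullback.lift (𝟙 T.left) T.hom _) ≫ ((Over.pullback ρ).map z).left) ≫ pullback.fst J.hom ρ = z.left
    simp [Over.pullback]
    exact Category.id_comp z.left
  have hu' : ∀ c : T ⟶ (Over.pullback ρ).obj J, u ≫ (Over.pullback ρ).map (Ext.low ρ J c) = c := fun c =>
    Ext.low_injective ρ J (hu _)
  calc Ext.low ρ J (show T ⟶ (Over.pullback ρ).obj J from a * b)
      = Ext.low ρ J (u ≫ (Over.pullback ρ).map (Ext.low ρ J a * Ext.low ρ J b)) := by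
        refine congrArg (Ext.low ρ J) (Eq.symm ?_)
        rw [Functor.map_mul]
        exact (MonObj.comp_mul (M := (Over.pullback ρ).obj J) u _ _).trans
          (congrArg₂ (fun p q : T ⟶ (Over.pullback ρ).obj J => p * q) (hu' a) (hu' b))
    _ = Ext.low ρ J a * Ext.low ρ J b := hu _

variable [IsProper f] [Smooth f] [SmoothOfRelativeDimension 1 f] [GeometricallyIntegral f]
  (hdim : topologicalKrullDim X = 1) [SmoothOfRelativeDimension 1 (fL f ρ)]
  (hdimL : topologicalKrullDim ↥(pullback f ρ) = 1)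

include hdim hdimL in
theorem ok_below {T : Over (Spec (CommRingCat.of L))} {x : (PicF.XT (fL f ρ) T).Modules}
    (hx : (ModFun.PicDeg (fL f ρ) 0).ok T x) :
    (ModFun.PicDeg f 0).ok (below ρ T) ((Scheme.Modules.pullback (cmp f ρ T).inv).obj x) := by
  obtain ⟨hi, hd⟩ := (ok_iff (fL f ρ) hdimL 0 T x).1 hx
  refine (ok_iff f hdim 0 _ _).2 ⟨PicClLib.isInvertible_pullback _ hi, fun t => ?_⟩
  show degCl f (PicF.pullCl (cmp f ρ T).inv (PicF.cl x)) t = 0
  rw [← deg0At_iff, deg0At_cmp f ρ ⟨x, rfl, hi⟩, deg0At_iff]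
  exact hd t

variable (ψ : (ModFun.PicDeg f 0).Hom ⊤ J)

/-- the classifying maps of the base change -/
def bcHom : (ModFun.PicDeg (fL f ρ) 0).Hom ⊤ (Ext.up ρ J) where
  app T x _ hx := (Ext.low_surjective ρ J (ψ.app (below ρ T) _ trivial (ok_below f ρ hdim hdimL hx))).choose
  natural {T T'} g x _ _ hx hx' := by
    refine Ext.low_injective ρ J ?_
    rw [(Ext.low_surjective ρ J (ψ.app (below ρ T') _ trivial (ok_below f ρ hdim hdimL hx'))).choose_spec,
      Ext.low_comp, (Ext.low_surjective ρ J (ψ.app (below ρ T) _ trivial (ok_below f ρ hdim hdimL hx))).choose_spec,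
      ← ψ.natural (bmap ρ g) _ trivial trivial _ (ok_pull f hdim (bmap ρ g) (ok_below f ρ hdim hdimL hx))]
    refine ψ.resp _ _ trivial _ _ ((r_iff f 0 _ _ _).2 ⟨1, ⟨_, rfl, PicLoc.isInvertible_structureModule _⟩, ?_⟩)
    rw [pullCl_one, _root_.mul_one]
    show PicF.pullCl (PicF.XTmap f (bmap ρ g)) (PicF.pullCl (cmp f ρ T).inv (PicF.cl x)) =
      PicF.pullCl (cmp f ρ T').inv (PicF.pullCl (PicF.XTmap (fL f ρ) g) (PicF.cl x))
    rw [PicClLib.pullCl_comp, PicClLib.pullCl_comp]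
    refine congrArg (fun m => PicF.pullCl m (PicF.cl x)) ?_
    rw [Iso.comp_inv_eq, Category.assoc, cmp_map, Iso.inv_hom_id_assoc]
  resp {T} x y _ hx hy h := by
    refine Ext.low_injective ρ J ?_
    rw [(Ext.low_surjective ρ J (ψ.app (below ρ T) _ trivial (ok_below f ρ hdim hdimL hx))).choose_spec,
      (Ext.low_surjective ρ J (ψ.app (below ρ T) _ trivial (ok_below f ρ hdim hdimL hy))).choose_spec]
    obtain ⟨m, hm, e⟩ := (r_iff (fL f ρ) 0 T _ _).1 h
    refine ψ.resp _ _ trivial _ _ ((r_iff f 0 _ _ _).2 ⟨m, hm, ?_⟩)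
    show PicF.pullCl (cmp f ρ T).inv (PicF.cl y) = PicF.pullCl (cmp f ρ T).inv (PicF.cl x) * _
    rw [e, pullCl_mul, PicClLib.pullCl_comp _ (PicF.XTproj (fL f ρ) T),
      (Iso.inv_comp_eq _).2 (cmp_proj f ρ T).symm]

theorem low_bcHom {T : Over (Spec (CommRingCat.of L))} {x : (PicF.XT (fL f ρ) T).Modules}
    (hx : (ModFun.PicDeg (fL f ρ) 0).ok T x) :
    Ext.low ρ J ((bcHom f ρ hdim hdimL ψ).app T x trivial hx) =
      ψ.app (below ρ T) _ trivial (ok_below f ρ hdim hdimL hx) :=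
  (Ext.low_surjective ρ J (ψ.app (below ρ T) _ trivial (ok_below f ρ hdim hdimL hx))).choose_spec

variable [IsIntegral (pullback f ρ)] (σ' : Spec (CommRingCat.of L) ⟶ pullback f ρ) (hσ' : σ' ≫ fL f ρ = 𝟙 _)
  {V : Over (Spec (CommRingCat.of L))} (ξ : PicF.Rig (fL f ρ) σ' hσ' V)
  (hξ : FGA.HasFibreDegreeZeroCl (fL f ρ) V ξ.1)
  (huniv : ∀ (T : Over (Spec (CommRingCat.of L))) (c : PicF.Rig (fL f ρ) σ' hσ' T),
    FGA.HasFibreDegreeZeroCl (fL f ρ) T c.1 → ∃! g : T ⟶ V, PicF.pullCl (PicF.XTmap (fL f ρ) g) ξ.1 = c.1)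

include hξ huniv in
/-- the base change of a coarse Jacobian is a coarse Jacobian -/
theorem isJacobian_bc [GrpObj J] [IsFinite ρ] [Flat ρ] [Surjective ρ] [LocallyOfFinitePresentation ρ]
    {M : V.left.Modules} (hM : CohB1.IsAmple M) (hJ : Jac.IsJacobian f ⊤ J ψ) :
    Jac.IsJacobian (fL f ρ) ⊤ ((Over.pullback ρ).obj J) (bcHom f ρ hdim hdimL ψ) := by
  obtain ⟨E, hok, κ, hE, hκ⟩ := exists_iso f ρ hdim hdimL σ' hσ' ξ hξ huniv hM ψ hJ.coarse.2.1
  have ha : PicF.IsInvertibleCl (1 : PicF.Cl (pullback f ρ)) := Alb.isInvertibleCl_one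
  have had : degX (fL f ρ) (1 : PicF.Cl (pullback f ρ)) = 0 := degX_one _
  obtain ⟨E', hE', -⟩ := isInvertibleCl_univCl (fL f ρ) σ' hσ' ξ ha
  have hu := isUnivFamily_picDeg (fL f ρ) hdimL σ' hσ' ξ hξ huniv ha had hE'
  let φ := classHom (fL f ρ) hu ⊤
  have hE1 : PicF.cl E' = ξ.1 := by rw [hE', univCl, tw, pullCl_one, _root_.mul_one]
  have hval : ∀ (T : Over (Spec (CommRingCat.of L))) (x : (PicF.XT (fL f ρ) T).Modules)
      (hx : (ModFun.PicDeg (fL f ρ) 0).ok T x),
      (bcHom f ρ hdim hdimL ψ).app T x trivial hx = φ.app T x trivial hx ≫ κ.hom := by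
    intro T x hx
    let g := φ.app T x trivial hx
    refine Ext.low_injective ρ J ?_
    rw [low_bcHom, Ext.low_comp, hκ, ← ψ.natural (bmap ρ g) E trivial trivial hok (ok_pull f hdim _ hok)]
    obtain ⟨m, hm, e⟩ := (r_iff (fL f ρ) 0 T _ _).1 (hu.2 T x trivial hx).choose_spec.1
    refine (ψ.resp _ _ trivial _ _ ((r_iff f 0 _ _ _).2 ⟨m, hm, ?_⟩)).symm
    show PicF.pullCl (cmp f ρ T).inv (PicF.cl x) =
      PicF.pullCl (PicF.XTmap f (bmap ρ g)) (PicF.cl E) * _
    rw [e, pullCl_mul, PicClLib.pullCl_comp _ (PicF.XTproj (fL f ρ) T),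
      (Iso.inv_comp_eq _).2 (cmp_proj f ρ T).symm, hE]
    show PicF.pullCl _ (PicF.pullCl (PicF.XTmap (fL f ρ) g) (PicF.cl E')) * _ = _
    rw [hE1, PicClLib.pullCl_comp, PicClLib.pullCl_comp]
    refine congrArg (fun m' => PicF.pullCl m' ξ.1 * _) ?_
    rw [Iso.eq_comp_inv, Category.assoc, cmp_map, Iso.inv_hom_id_assoc]
  refine ⟨⟨fun _ _ _ _ => trivial, fun N χ => ⟨κ.inv ≫ χ.app V E' trivial hu.1, fun T x hT hx => ?_, fun G hG => ?_⟩,
    fun Ω _ _ t hP => ?_⟩, fun T hT L₁ M₁ N₁ hL hM₁ hN hiso => ?_⟩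
  · rw [hval T x hx, Category.assoc, κ.hom_inv_id_assoc,
      ← χ.natural (φ.app T x trivial hx) E' trivial trivial hu.1 (ok_pull (fL f ρ) hdimL _ hu.1)]
    exact (χ.resp _ x trivial (ok_pull (fL f ρ) hdimL _ hu.1) hx (hu.2 T x trivial hx).choose_spec.1).symm
  · have h := hG V ((ModFun.PicDeg (fL f ρ) 0).pull (𝟙 V) E') trivial (ok_pull (fL f ρ) hdimL (𝟙 V) hu.1)
    rw [hval, classHom_pull (fL f ρ) hdimL hu ⊤ trivial (𝟙 V), Category.id_comp,
      χ.natural (𝟙 V) E' trivial trivial hu.1 (ok_pull (fL f ρ) hdimL _ hu.1), Category.id_comp] at h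
    rw [h, κ.inv_hom_id_assoc]
  · obtain ⟨h1, h2⟩ := geomBij_classHom (fL f ρ) hdimL hu ⊤ Ω t hP
    refine ⟨fun g => ?_, fun x y hx hy h => h2 x y hx hy ((cancel_mono κ.hom).1 ?_)⟩
    · obtain ⟨x, hx, e⟩ := h1 (g ≫ κ.inv)
      exact ⟨x, hx, by rw [hval, e, Category.assoc, κ.inv_hom_id]; exact Category.comp_id g⟩
    · rw [← hval, ← hval]
      exact h
  · refine Ext.low_injective ρ J ?_
    rw [low_mul, low_bcHom, low_bcHom, low_bcHom]
    refine hJ.mul _ trivial _ _ _ (ok_below f ρ hdim hdimL hL) (ok_below f ρ hdim hdimL hM₁) _ (cl_eq_iff.1 ?_)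
    rw [cl_tensor]
    show PicF.pullCl (cmp f ρ T).inv (PicF.cl N₁) = PicF.pullCl _ (PicF.cl L₁) * PicF.pullCl _ (PicF.cl M₁)
    rw [← pullCl_mul, ← cl_tensor]
    exact congrArg _ (cl_eq_iff.2 hiso)

end Groth.Agent.PicCurve.JacCoarse

end
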