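import Groth.Agent.PicCurve.JacCoarse.Approx
import Groth.Agent.PicCurve.JacDescent
import Groth.Agent.PicCurve.PicDeg
import Groth.Agent.PicCurve.Torelli.Extension

/-!
# A coarse Jacobian over an extension where the curve has a point

Over a finite extension `L` of `k` over which the curve has a rational point, a coarse Jacobian over `k` becomes the
fine Jacobian, through the point of the universal class.
-/

noncomputable section

set_option autoImplicit false
set_option linter.style.haveILetI false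
set_option linter.unusedSectionVars false
set_option backward.isDefEq.respectTransparency false
set_option backward.isDefEq.respectTransparency.types false
set_option maxHeartbeats 1000000
set_option synthInstance.maxHeartbeats 400000
attribute [-instance] CategoryTheory.catToReflQuiver

universe u

open CategoryTheory CategoryTheory.Limits AlgebraicGeometry TopologicalSpace Opposite Desc
  MonoidalCategory CartesianMonoidalCategory
open scoped MonObj
open Groth.Agent.H23.PicMul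

namespace Groth.Agent.PicCurve.JacCoarse

open RepDescent (below)

variable {k L : Type u} [Field k] [Field L] {X : Scheme.{u}} (f : X ⟶ Spec (CommRingCat.of k))
  (ρ : Spec (CommRingCat.of L) ⟶ Spec (CommRingCat.of k))

/-- the degree does not change under an extension of the field -/
theorem deg0At_cmp [IsProper f] {T : Over (Spec (CommRingCat.of L))} {c : PicF.Cl (PicF.XT (fL f ρ) T)}
    (hc : PicF.IsInvertibleCl c) (t : T.left) :
    Deg0At f (PicF.pullCl (cmp f ρ T).inv c) t ↔ Deg0At (fL f ρ) c t := by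
  haveI : IsProper (PicF.XTproj (fL f ρ) T) := inferInstanceAs (IsProper (pullback.snd (fL f ρ) T.hom))
  obtain ⟨N, hN, hNi⟩ := hc
  let G : PicF.XT f (below ρ T) ⟶ PicF.XT (fL f ρ) T := (cmp f ρ T).inv
  have hw : G ≫ PicF.XTproj (fL f ρ) T = PicF.XTproj f (below ρ T) ≫ 𝟙 T.left :=
    ((Iso.inv_comp_eq _).2 (cmp_proj f ρ T).symm).trans (Category.comp_id _).symm
  haveI : IsIso G := inferInstanceAs (IsIso (cmp f ρ T).inv)
  have hpb : IsPullback G (PicF.XTproj f (below ρ T)) (PicF.XTproj (fL f ρ) T) (𝟙 T.left) :=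
    haveI : IsIso (𝟙 T.left) := IsIso.id T.left
    @IsPullback.of_horiz_isIso _ _ _ _ _ _ _ _ _ _ ‹IsIso G› ‹IsIso (𝟙 T.left)› ⟨hw⟩
  have h1 := chiAt_bc (PicF.XTproj (fL f ρ) T) hpb (isQCoh_inv hNi) t
  have h2 := chiAt_bc (PicF.XTproj (fL f ρ) T) hpb (PnCoh.isQCoh_structureModule _) t
  have h3 := chiAt_congr (PicF.XTproj f (below ρ T)) (CurveBC.unitIso G) t
  have hM : PicF.cl ((Scheme.Modules.pullback G).obj N) = PicF.pullCl (cmp f ρ T).inv c :=
    congrArg (PicF.pullCl G) hN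
  have hd : ∀ (M : (PicF.XT f (below ρ T)).Modules), PicF.cl M = PicF.pullCl (cmp f ρ T).inv c →
      (Deg0At f (PicF.pullCl (cmp f ρ T).inv c) t ↔
        chiAt (PicF.XTproj f (below ρ T)) M t = chiAt (PicF.XTproj f (below ρ T)) (Coh.structureModule _) t) := by
    intro M hM
    rw [← hM]
    exact deg0At_cl f M t
  refine (hd _ hM).trans ?_
  rw [← hN, deg0At_cl]
  constructor
  · intro h
    exact (h1.symm.trans (h.trans (h3.symm.trans h2)) : _)
  · intro h
    exact h1.trans (h.trans (h2.symm.trans h3))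

variable [IsProper f] [Smooth f] [SmoothOfRelativeDimension 1 f] [GeometricallyIntegral f]
  (hdim : topologicalKrullDim X = 1)

/-- admissible families up to classes from the base -/
def famSetoid (T : Over (Spec (CommRingCat.of k))) :
    Setoid {x : (PicF.XT f T).Modules // (ModFun.PicDeg f 0).ok T x} where
  r a b := (ModFun.PicDeg f 0).r T a.1 b.1
  iseqv :=
    ⟨fun a => (r_iff f 0 T _ _).2 ⟨1, ⟨_, rfl, PicLoc.isInvertible_structureModule _⟩,
      by rw [pullCl_one, _root_.mul_one]⟩, fun h => r_symm f h, fun h h' => r_trans f h h'⟩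

/-- the functor of admissible families up to classes from the base -/
def famFunctor : (Over (Spec (CommRingCat.of k)))ᵒᵖ ⥤ Type (u + 1) where
  obj T := Quotient (famSetoid f T.unop)
  map {T T'} g := ↾(Quotient.map (fun a => ⟨(ModFun.PicDeg f 0).pull g.unop a.1, ok_pull f hdim g.unop a.2⟩)
    fun a b h => r_pull f g.unop h)
  map_id T := by
    ext a
    refine Quotient.inductionOn a fun a => Quotient.sound ((r_iff f 0 _ _ _).2
      ⟨1, ⟨_, rfl, PicLoc.isInvertible_structureModule _⟩, ?_⟩)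
    rw [pullCl_one, _root_.mul_one]
    show PicF.cl a.1 = PicF.pullCl (PicF.XTmap f (𝟙 T.unop)) (PicF.cl a.1)
    rw [show PicF.XTmap f (𝟙 T.unop) = 𝟙 _ from pullback.hom_ext (by simp [PicF.XTmap]) (by simp [PicF.XTmap]),
      PicClLib.pullCl_id]
  map_comp {T T' T''} g g' := by
    ext a
    exact Quotient.inductionOn a fun a => Quotient.sound (r_pull_pull f g'.unop g.unop a.1)

variable [SmoothOfRelativeDimension 1 (fL f ρ)] [IsIntegral (pullback f ρ)]
  (hdimL : topologicalKrullDim ↥(pullback f ρ) = 1)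
  (σ' : Spec (CommRingCat.of L) ⟶ pullback f ρ) (hσ' : σ' ≫ fL f ρ = 𝟙 _)
  {V : Over (Spec (CommRingCat.of L))} (ξ : PicF.Rig (fL f ρ) σ' hσ' V)
  (hξ : FGA.HasFibreDegreeZeroCl (fL f ρ) V ξ.1)
  (huniv : ∀ (T : Over (Spec (CommRingCat.of L))) (c : PicF.Rig (fL f ρ) σ' hσ' T),
    FGA.HasFibreDegreeZeroCl (fL f ρ) T c.1 → ∃! g : T ⟶ V, PicF.pullCl (PicF.XTmap (fL f ρ) g) ξ.1 = c.1)

include hdim hξ in
/-- the universal class is an admissible family over the ground field -/
theorem exists_univ_family :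
    ∃ E : (PicF.XT f (below ρ V)).Modules, (ModFun.PicDeg f 0).ok (below ρ V) E ∧
      PicF.cl E = PicF.pullCl (cmp f ρ V).inv ξ.1 := by
  obtain ⟨E, hE, hEi⟩ := FppfPic.isInvertibleCl_pull (cmp f ρ V).inv ξ.2.1
  refine ⟨E, (ok_iff f hdim 0 (below ρ V) E).2 ⟨hEi, fun t => ?_⟩, hE⟩
  rw [hE, ← deg0At_iff, deg0At_cmp f ρ ξ.2.1]
  exact (hasFibreDegreeZeroCl_iff (fL f ρ) _).1 hξ t

include hdim hdimL hξ huniv in
/-- admissible families are classified over the extension -/
theorem isUnivOn {E : (PicF.XT f (below ρ V)).Modules} (hok : (ModFun.PicDeg f 0).ok (below ρ V) E)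
    (hE : PicF.cl E = PicF.pullCl (cmp f ρ V).inv ξ.1) :
    RepDescent.IsUnivOn (famFunctor f hdim) V (Quotient.mk (famSetoid f (below ρ V)) ⟨E, hok⟩) := by
  intro T x hx c
  refine Quotient.inductionOn c fun y => ?_
  let T' : Over (Spec (CommRingCat.of L)) := Over.mk x
  let i : below ρ T' ⟶ T := Over.homMk (𝟙 T.left) ((Category.id_comp _).trans hx.symm)
  let i' : T ⟶ below ρ T' := Over.homMk (𝟙 T.left) ((Category.id_comp _).trans hx)
  have hii : i' ≫ i = 𝟙 T := Over.OverMorphism.ext (Category.id_comp _)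
  have hii' : i ≫ i' = 𝟙 _ := Over.OverMorphism.ext (Category.id_comp _)
  obtain ⟨hyi, hyd⟩ := (ok_iff f hdim 0 T y.1).1 y.2
  let c₀ : PicF.Cl (PicF.XT f (below ρ T')) := PicF.pullCl (PicF.XTmap f i) (PicF.cl y.1)
  have hc₀ : PicF.IsInvertibleCl c₀ := FppfPic.isInvertibleCl_pull _ ⟨_, rfl, hyi⟩
  let c' : PicF.Cl (PicF.XT (fL f ρ) T') := PicF.pullCl (cmp f ρ T').hom c₀
  have hc' : PicF.IsInvertibleCl c' := FppfPic.isInvertibleCl_pull _ hc₀
  have hback : PicF.pullCl (cmp f ρ T').inv c' = c₀ := by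
    show PicF.pullCl _ (PicF.pullCl _ c₀) = c₀
    rw [PicClLib.pullCl_comp, Iso.inv_hom_id, PicClLib.pullCl_id]
  have hd' : ∀ t, degCl (fL f ρ) c' t = 0 := fun t => by
    rw [← deg0At_iff, ← deg0At_cmp f ρ hc', hback, deg0At_iff]
    exact (degCl_pull f i ⟨_, rfl, hyi⟩ t).trans (hyd _)
  obtain ⟨g, hg, hg'⟩ := existsUnique_classify (fL f ρ) hdimL σ' hσ' ξ hξ huniv
    (a := 1) Alb.isInvertibleCl_one (degX_one _) hc' hd'
  have hu1 : univCl (fL f ρ) σ' hσ' ξ (a := (1 : PicF.Cl (pullback f ρ))) = ξ.1 := by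
    rw [univCl, tw, pullCl_one, _root_.mul_one]
  have hmap : ∀ g₂ : T' ⟶ V, PicF.pullCl (PicF.XTmap f (bmap ρ g₂)) (PicF.cl E) =
      PicF.pullCl (cmp f ρ T').inv (PicF.pullCl (PicF.XTmap (fL f ρ) g₂) ξ.1) := fun g₂ => by
    rw [hE, PicClLib.pullCl_comp, PicClLib.pullCl_comp]
    refine congrArg (fun m => PicF.pullCl m ξ.1) ?_
    rw [Iso.comp_inv_eq, Category.assoc, cmp_map, Iso.inv_hom_id_assoc]
  have hproj : ∀ m : PicF.Cl T'.left, PicF.pullCl (cmp f ρ T').inv (PicF.pullCl (PicF.XTproj (fL f ρ) T') m) =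
      PicF.pullCl (PicF.XTproj f (below ρ T')) m := fun m => by
    rw [PicClLib.pullCl_comp, (Iso.inv_comp_eq _).2 (cmp_proj f ρ T').symm]
  have key : ∀ (g₂ : T' ⟶ V) (v : T ⟶ below ρ V), i ≫ v = bmap ρ g₂ →
      ((famFunctor f hdim).map v.op (Quotient.mk (famSetoid f (below ρ V)) ⟨E, hok⟩) = Quotient.mk _ y ↔
        ∃ m : PicF.Cl T'.left, PicF.IsInvertibleCl m ∧
          c' = PicF.pullCl (PicF.XTmap (fL f ρ) g₂) (univCl (fL f ρ) σ' hσ' ξ (a := (1 : PicF.Cl (pullback f ρ)))) *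
            PicF.pullCl (PicF.XTproj (fL f ρ) T') m) := by
    intro g₂ v hv
    rw [hu1]
    constructor
    · intro h
      obtain ⟨m, hm, e⟩ := (r_iff f 0 T _ _).1 (Quotient.exact h)
      refine ⟨PicF.pullCl i.left m, FppfPic.isInvertibleCl_pull _ hm, ?_⟩
      have e' := congrArg (fun z => PicF.pullCl (cmp f ρ T').hom (PicF.pullCl (PicF.XTmap f i) z)) e
      change PicF.pullCl (cmp f ρ T').hom (PicF.pullCl (PicF.XTmap f i) (PicF.cl y.1)) =
        PicF.pullCl (cmp f ρ T').hom (PicF.pullCl (PicF.XTmap f i)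
          (PicF.pullCl (PicF.XTmap f v) (PicF.cl E) * PicF.pullCl (PicF.XTproj f T) m)) at e'
      rw [pullCl_mul, pullCl_mul, FppfPic.pullCl_XTmap_comp f i v, hv, hmap, pull_proj, PicClLib.pullCl_comp
          (cmp f ρ T').hom (cmp f ρ T').inv, Iso.hom_inv_id, PicClLib.pullCl_id, PicClLib.pullCl_comp
          (cmp f ρ T').hom (PicF.XTproj f (below ρ T')), cmp_proj] at e'
      exact e'
    · rintro ⟨m, hm, e⟩
      refine Quotient.sound ((r_iff f 0 T _ _).2 ⟨PicF.pullCl i'.left m, FppfPic.isInvertibleCl_pull _ hm, ?_⟩)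
      have hv' : v = i' ≫ bmap ρ g₂ := by rw [← hv, reassoc_of% hii]
      show PicF.cl y.1 = PicF.pullCl (PicF.XTmap f v) (PicF.cl E) * _
      rw [hv', ← FppfPic.pullCl_XTmap_comp f i' (bmap ρ g₂), hmap, ← pull_proj f i', ← hproj, ← pullCl_mul,
        ← pullCl_mul, ← e, hback]
      show _ = PicF.pullCl (PicF.XTmap f i') (PicF.pullCl (PicF.XTmap f i) (PicF.cl y.1))
      rw [FppfPic.pullCl_XTmap_comp, hii, show PicF.XTmap f (𝟙 T) = 𝟙 _ from
        pullback.hom_ext (by simp [PicF.XTmap]) (by simp [PicF.XTmap]), PicClLib.pullCl_id]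
  refine ⟨i' ≫ bmap ρ g, ⟨?_, ?_⟩, ?_⟩
  · show (𝟙 T.left ≫ g.left) ≫ V.hom = x
    rw [Category.id_comp]
    exact Over.w g
  · exact (key g _ (by rw [← Category.assoc, hii', Category.id_comp])).2 hg
  · rintro v ⟨hv1, hv2⟩
    let g₂ : T' ⟶ V := Over.homMk v.left hv1
    have hv : i ≫ v = bmap ρ g₂ := Over.OverMorphism.ext (Category.id_comp _)
    rw [← hg' g₂ ((key g₂ v hv).1 hv2), ← hv, reassoc_of% hii]

include hdim hdimL hξ huniv in
/-- **a coarse Jacobian becomes the fine Jacobian over the extension** -/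
theorem exists_iso [IsFinite ρ] [Flat ρ] [Surjective ρ] [LocallyOfFinitePresentation ρ]
    {M : V.left.Modules} (hM : CohB1.IsAmple M) {J : Over (Spec (CommRingCat.of k))}
    (ψ : (ModFun.PicDeg f 0).Hom ⊤ J) (hJ : ModFun.IsBestApprox ⊤ (ModFun.PicDeg f 0) J ψ) :
    ∃ (E : (PicF.XT f (below ρ V)).Modules) (hok : (ModFun.PicDeg f 0).ok (below ρ V) E) (κ : V ≅ Ext.up ρ J),
      PicF.cl E = PicF.pullCl (cmp f ρ V).inv ξ.1 ∧
        Ext.low ρ J κ.hom = ψ.app (below ρ V) E trivial hok := by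
  obtain ⟨E, hok, hE⟩ := exists_univ_family f ρ hdim σ' hσ' ξ hξ
  have hV := isUnivOn f ρ hdim hdimL σ' hσ' ξ hξ huniv hok hE
  obtain ⟨W, ⟨e⟩⟩ := effective_of_ample ρ (RepDescent.dd hV) hM
  let Φ : ∀ T, (famFunctor f hdim).obj (op T) → (T ⟶ J) := fun T =>
    Quotient.lift (fun a => ψ.app T a.1 trivial a.2) fun a b h => ψ.resp a.1 b.1 trivial a.2 b.2 h
  have hiso := RepDescent.isIso_point hV e Φ
    (fun T T' g c => Quotient.inductionOn c fun a => ψ.natural g a.1 trivial trivial a.2 (ok_pull f hdim g a.2))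
    fun N' Φ' hΦ' => by
      let φ' : (ModFun.PicDeg f 0).Hom ⊤ N' :=
        { app := fun T x _ hx => Φ' T (Quotient.mk _ ⟨x, hx⟩)
          natural := fun {T T'} g x _ _ hx hx' => hΦ' T T' g (Quotient.mk _ ⟨x, hx⟩)
          resp := fun {T} x y _ hx hy h => congrArg (Φ' T) (Quotient.sound h) }
      obtain ⟨f₁, hf₁, hu⟩ := hJ N' φ'
      exact ⟨f₁, fun T c => Quotient.inductionOn c fun a => hf₁ T a.1 trivial a.2,
        fun f₂ hf₂ => hu f₂ fun T x _ hx => hf₂ T (Quotient.mk _ ⟨x, hx⟩)⟩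
  let b : below ρ V ⟶ J := ψ.app (below ρ V) E trivial hok
  let h₀ : V.left ⟶ pullback ρ J.hom := pullback.lift V.hom b.left (Over.w b).symm
  haveI : IsIso h₀ := hiso
  let h : V ⟶ Ext.up ρ J := Over.homMk (pullback.lift b.left V.hom (Over.w b)) (pullback.lift_snd _ _ _)
  have hh : h.left = h₀ ≫ (pullbackSymmetry ρ J.hom).hom := by
    refine pullback.hom_ext ?_ ?_ <;> simp [h, h₀]
  haveI : IsIso h.left := by rw [hh]; infer_instance
  haveI : IsIso ((Over.forget _).map h) := inferInstanceAs (IsIso h.left)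
  haveI : IsIso h := isIso_of_reflects_iso h (Over.forget _)
  exact ⟨E, hok, asIso h, hE, Over.OverMorphism.ext (pullback.lift_fst _ _ _)⟩

end Groth.Agent.PicCurve.JacCoarse

end
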