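import Groth.Agent.PicCurve.JacCoarse.BaseChange
import Groth.Agent.FinDesc.Polarization

/-!
# The homomorphism attached to a line bundle, after an extension of the ground field
-/

noncomputable section

set_option autoImplicit false
set_option linter.style.haveILetI false
set_option linter.unusedSectionVars false
set_option backward.isDefEq.respectTransparency false
set_option backward.isDefEq.respectTransparency.types false
set_option maxHeartbeats 1000000
set_option synthInstance.maxHeartbeats 400000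
attribute [-instance] CategoryTheory.catToReflQuiver

universe u

open CategoryTheory CategoryTheory.Limits AlgebraicGeometry TopologicalSpace Opposite
  MonoidalCategory CartesianMonoidalCategory MonObj
open scoped CategoryTheory.Obj
open Groth.Agent.H23.PicMul

namespace Groth.Agent.PicCurve.JacCoarse

open RepDescent (below)
open Groth.Agent.H23.CubeAb (F)
open Groth.Agent.AVPair (pl pl_pl)

variable {k L : Type u} [Field k] [Field L] (ρ : Spec (CommRingCat.of L) ⟶ Spec (CommRingCat.of k))
  {A At : Over (Spec (CommRingCat.of k))} [GrpObj A] [GrpObj At] [IsProper A.hom] [GeometricallyIntegral A.hom]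
  {φ : AgPol.DualMap A At}

/-- the homomorphism attached to a module pulls back along an extension of the ground field -/
theorem isLambda_bc (hφ : AbDual.IsDualAV Scheme.fppfPrecoverage A At φ) {Θ : A.left.Modules}
    (hΘ : PicF.IsInvertible Θ) {lam : A ⟶ At} (h : AgPol.IsLambda A At φ Θ lam) :
    AgPol.IsLambda (Red.bc ρ A) (Red.bc ρ At) (AgPol.bcDual ρ A At φ)
      ((Scheme.Modules.pullback (pullback.fst A.hom ρ)).obj Θ) ((Over.pullback ρ).map lam) := by
  obtain ⟨M, hM, hML, hlam⟩ := h
  have hz : AbDual.IsPicZeroCl A.hom A (PicF.cl M) := FinDesc.pz_lambdaSheaf hΘ hM hML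
  let A' : Over (Spec (CommRingCat.of L)) := (Over.pullback ρ).obj A
  let pr : FinDesc.dn ρ A' ⟶ A := Over.homMk (pullback.fst A.hom ρ) pullback.condition
  let G : PicF.XT A'.hom A' ⟶ PicF.XT A.hom A := (AgPol.bcXTIso ρ A A').hom ≫ PicF.XTmap A.hom pr
  let π : A'.left ⟶ A.left := pullback.fst A.hom ρ
  let cM : PicF.Cl (A ⊗ A).left := PicF.cl M
  let θ : PicF.Cl A.left := PicF.cl Θ
  have hG1 : G ≫ (fst A A).left = (fst A' A').left ≫ π := by
    show ((AgPol.bcXTIso ρ A A').hom ≫ PicF.XTmap A.hom pr) ≫ pullback.fst A.hom A.hom =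
      pullback.fst A'.hom A'.hom ≫ pullback.fst A.hom ρ
    simp [AgPol.bcXTIso, PicF.XTmap]
    rfl
  have hG2 : G ≫ (snd A A).left = (snd A' A').left ≫ π := by
    show ((AgPol.bcXTIso ρ A A').hom ≫ PicF.XTmap A.hom pr) ≫ pullback.snd A.hom A.hom =
      pullback.snd A'.hom A'.hom ≫ pullback.fst A.hom ρ
    simp [AgPol.bcXTIso, PicF.XTmap, pr, A', Over.pullback]
  have hGm : G ≫ μ[A].left = μ[A'].left ≫ π := by
    let p₁ : below ρ (A' ⊗ A') ⟶ A := Ext.low ρ A (fst A' A')
    let p₂ : below ρ (A' ⊗ A') ⟶ A := Ext.low ρ A (snd A' A')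
    have hm : μ[A'] = fst A' A' * snd A' A' := by
      rw [Hom.mul_def, lift_fst_snd, Category.id_comp]
    have h2 : Ext.low ρ A (show (A' ⊗ A') ⟶ A' from fst A' A' * snd A' A') = p₁ * p₂ := low_mul ρ _ _
    have h3 : (lift p₁ p₂).left = G := pullback.hom_ext
      ((congrArg CommaMorphism.left (lift_fst p₁ p₂)).trans hG1.symm)
      ((congrArg CommaMorphism.left (lift_snd p₁ p₂)).trans hG2.symm)
    rw [← h3]
    refine Eq.trans ?_ (congrArg (fun z : A' ⊗ A' ⟶ A' => z.left ≫ π) hm).symm
    exact ((congrArg CommaMorphism.left h2).trans (congrArg CommaMorphism.left (Hom.mul_def p₁ p₂))).symm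
  refine ⟨(Scheme.Modules.pullback G).obj M, PicClLib.isInvertible_pullback _ hM, ?_, ?_⟩
  · have e : cM * F θ (fst A A) * F θ (snd A A) = F θ μ[A] := (PicGrp.cl_eq_cl_iff _ _).2 hML
    have e' := congrArg (pullHom G) e
    rw [map_mul, map_mul] at e'
    have hF : ∀ (q : A ⊗ A ⟶ A) (q' : A' ⊗ A' ⟶ A'), G ≫ q.left = q'.left ≫ π →
        pullHom G (F θ q) = PicF.pullCl q'.left (PicF.pullCl π θ) := fun q q' hq => by
      show PicF.pullCl G (PicF.pullCl q.left θ) = _
      rw [PicClLib.pullCl_comp, PicClLib.pullCl_comp, hq]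
    rw [hF _ _ hG1, hF _ _ hG2, hF _ _ hGm] at e'
    refine (PicGrp.cl_eq_cl_iff _ _).1 ?_
    rw [Groth.Agent.H23.PicMul.cl_tensor, Groth.Agent.H23.PicMul.cl_tensor]
    exact e'
  · rw [FinDesc.bcDual_eq]
    have hc : PicF.pullCl (AgPol.bcXTIso ρ A A').inv (PicF.cl ((Scheme.Modules.pullback G).obj M)) =
        PicF.pullCl (PicF.XTmap A.hom pr) (PicF.cl M) := by
      show PicF.pullCl _ (PicF.pullCl G (PicF.cl M)) = _
      rw [PicClLib.pullCl_comp, Iso.inv_hom_id_assoc]
    rw [hc, hφ.relPic.natural _ _ pr _ hz, hlam, Functor.map_comp, ← Category.assoc]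
    have h1 : FinDesc.unitMap ρ A' ≫ (Over.pullback ρ).map pr = 𝟙 A' := by
      refine Over.OverMorphism.ext (pullback.hom_ext ?_ ?_)
      · simp [FinDesc.unitMap, pr, A', Over.pullback]
        exact (Category.id_comp _).symm
      · simp [FinDesc.unitMap, pr, A', Over.pullback]
    rw [h1, Category.id_comp]

end Groth.Agent.PicCurve.JacCoarse

end
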