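import Groth.Agent.PicCurve.JacCoarse.BaseChange
import Groth.Agent.PicCurve.ThetaPull.Image
import Groth.Agent.H9Existence.ProjLift
import Groth.Agent.AlgSpDec.OneFlat
import Groth.Agent.S4667
import Groth.Agent.S8914
import Groth.Agent.BlowUpLib.Local
import Groth.Agent.PicCurve.ThetaPull.Family
import Groth.Agent.PicCurve.Pts.Sets

/-!
# The theta line bundle of a coarse Jacobian over an extension of the ground field
-/

noncomputable section

set_option autoImplicit false
set_option linter.style.haveILetI false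
set_option linter.unusedSectionVars false
set_option backward.isDefEq.respectTransparency false
set_option backward.isDefEq.respectTransparency.types false
set_option maxHeartbeats 1000000
set_option synthInstance.maxHeartbeats 400000
attribute [-instance] CategoryTheory.catToReflQuiver

universe u

open CategoryTheory CategoryTheory.Limits AlgebraicGeometry TopologicalSpace Opposite
  MonoidalCategory CartesianMonoidalCategory
open scoped MonObj CategoryTheory.Obj
open Groth.Agent.H23.PicMul

namespace Groth.Agent.PicCurve.JacCoarse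

open RepDescent (below)

variable {k L : Type u} [Field k] [Field L] {X : Scheme.{u}} (f : X ⟶ Spec (CommRingCat.of k))
  (ρ : Spec (CommRingCat.of L) ⟶ Spec (CommRingCat.of k)) {J : Over (Spec (CommRingCat.of k))}
  [IsProper f] [Smooth f] [SmoothOfRelativeDimension 1 f] [GeometricallyIntegral f]
  (hdim : topologicalKrullDim X = 1) [SmoothOfRelativeDimension 1 (fL f ρ)]
  (hdimL : topologicalKrullDim ↥(pullback f ρ) = 1)
  (ψ : (ModFun.PicDeg f 0).Hom ⊤ J) {N : X.Modules} (hN : PicF.IsInvertible N)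

include hN in
/-- vanishing of sections does not see the comparison of the fibres -/
theorem subsingleton_HH_cmp {Ω : Type u} [Field Ω] (t' : Spec (CommRingCat.of Ω) ⟶ Spec (CommRingCat.of L))
    {x : (PicF.XT f (below ρ (Over.mk t'))).Modules} (hx : PicF.IsInvertible x)
    {x' : (PicF.XT (fL f ρ) (Over.mk t')).Modules} (hx' : PicF.IsInvertible x')
    (e : PicF.cl x' = PicF.pullCl (cmp f ρ (Over.mk t')).hom (PicF.cl x)) :
    Subsingleton (Coh.HH _ (CohB1.tensorMod x ((Scheme.Modules.pullback (pullback.fst f (t' ≫ ρ))).obj N)) 0) ↔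
      Subsingleton (Coh.HH _ (CohB1.tensorMod x'
        ((Scheme.Modules.pullback (pullback.fst (fL f ρ) t')).obj ((Scheme.Modules.pullback (pullback.fst f ρ)).obj N))) 0) := by
  let G := (cmp f ρ (Over.mk t')).hom
  let q : PicF.XT f (below ρ (Over.mk t')) ⟶ Spec (CommRingCat.of Ω) := PicF.XTproj f (below ρ (Over.mk t'))
  let q' : PicF.XT (fL f ρ) (Over.mk t') ⟶ Spec (CommRingCat.of Ω) := PicF.XTproj (fL f ρ) (Over.mk t')
  haveI : IsProper q := inferInstanceAs (IsProper (pullback.snd f (t' ≫ ρ)))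
  haveI : IsProper q' := inferInstanceAs (IsProper (pullback.snd (fL f ρ) t'))
  let A := CohB1.tensorMod x ((Scheme.Modules.pullback (pullback.fst f (t' ≫ ρ))).obj N)
  let B := CohB1.tensorMod x'
    ((Scheme.Modules.pullback (pullback.fst (fL f ρ) t')).obj ((Scheme.Modules.pullback (pullback.fst f ρ)).obj N))
  have hA : PicF.IsInvertible A := InvX.isInvertible_tensorMod hx (PicClLib.isInvertible_pullback _ hN)
  have hB : PicF.IsInvertible B :=
    InvX.isInvertible_tensorMod hx' (PicClLib.isInvertible_pullback _ (PicClLib.isInvertible_pullback _ hN))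
  have eAB : PicF.cl B = PicF.pullCl G (PicF.cl A) := by
    rw [cl_tensor, cl_tensor, pullCl_mul, e]
    congr 1
    show PicF.pullCl _ (PicF.pullCl _ (PicF.cl N)) = PicF.pullCl G (PicF.pullCl _ (PicF.cl N))
    rw [PicClLib.pullCl_comp, PicClLib.pullCl_comp]
    exact congrArg (fun m => PicF.pullCl m (PicF.cl N)) (cmp_fst f ρ (Over.mk t')).symm
  have eBA : PicF.cl A = PicF.pullCl (cmp f ρ (Over.mk t')).inv (PicF.cl B) := by
    rw [eAB, PicClLib.pullCl_comp, Iso.inv_hom_id, PicClLib.pullCl_id]
  constructor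
  · intro h
    exact QCoh.subsingleton_HH_of_iso (cl_eq_iff.1 eAB).some.symm 0
      (H9Existence.subsingleton_HH_pullback_iso q G (isQCoh_inv hA) 0 h)
  · intro h
    exact QCoh.subsingleton_HH_of_iso (cl_eq_iff.1 eBA).some.symm 0
      (H9Existence.subsingleton_HH_pullback_iso q' (cmp f ρ (Over.mk t')).inv (isQCoh_inv hB) 0 h)

variable [IsFinite ρ] [Flat ρ] [Surjective ρ] [LocallyOfFinitePresentation ρ]

include hN in
/-- the jump locus over the extension -/
theorem jumpLocus_bc :
    Jac.jumpLocus (fL f ρ) 0 (bcHom f ρ hdim hdimL ψ) ((Scheme.Modules.pullback (pullback.fst f ρ)).obj N) =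
      pullback.fst J.hom ρ ⁻¹' Jac.jumpLocus f 0 ψ N := by
  ext q
  constructor
  · rintro ⟨Ω, _, _, t', _, x', hx', hH, p, rfl⟩
    refine ⟨Ω, inferInstance, inferInstance, t' ≫ ρ, trivial,
      (Scheme.Modules.pullback (cmp f ρ (Over.mk t')).inv).obj x', ok_below f ρ hdim hdimL hx', ?_, p, ?_⟩
    · intro h
      refine hH ((subsingleton_HH_cmp f ρ hN t' (PicClLib.isInvertible_pullback _ ((ok_iff (fL f ρ) hdimL 0 _ _).1 hx').1)
        ((ok_iff (fL f ρ) hdimL 0 _ _).1 hx').1 ?_).1 h)
      show PicF.cl x' = PicF.pullCl _ (PicF.pullCl _ (PicF.cl x'))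
      rw [PicClLib.pullCl_comp, Iso.hom_inv_id, PicClLib.pullCl_id]
    · exact congr($((low_bcHom f ρ hdim hdimL ψ hx').symm).left p)
  · rintro ⟨Ω, _, _, t, _, x, hx, hH, p, hp⟩
    let z : Over.mk t ⟶ J := ψ.app (Over.mk t) x trivial hx
    -- a geometric point above `q`
    let pr := pullback.fst J.hom ρ
    haveI : IsFinite (pullback.fst z.left pr) := inferInstance
    let P₀ := pullback.fst z.left pr
    obtain ⟨w, hw1, hw2⟩ := Scheme.Pullback.exists_preimage_pullback (f := z.left) (g := pr) p q hp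
    let P₁ : pullback z.left pr ⟶ Spec (CommRingCat.of Ω) := P₀
    haveI : LocallyOfFiniteType P₁ := inferInstanceAs (LocallyOfFiniteType P₀)
    haveI : LocallyOfFiniteType (Over.mk P₁).hom := inferInstanceAs (LocallyOfFiniteType P₁)
    haveI : JacobsonSpace ↥(pullback z.left pr) := LocallyOfFiniteType.jacobsonSpace P₁
    haveI : Subsingleton ↥(Spec (CommRingCat.of Ω)) := inferInstanceAs (Subsingleton (PrimeSpectrum Ω))
    haveI : Finite ↥(pullback z.left pr) := by
      have h := P₀.finite_preimage_singleton p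
      have e : P₀ ⁻¹' {p} = Set.univ := Set.eq_univ_of_forall fun v =>
        @Subsingleton.elim _ (inferInstanceAs (Subsingleton (PrimeSpectrum Ω))) (P₀ v) p
      exact Set.finite_univ_iff.1 (e ▸ h)
    haveI : DiscreteTopology ↥(Over.mk P₁).left := inferInstanceAs (DiscreteTopology ↥(pullback z.left pr))
    obtain ⟨s, hs⟩ := Pts.exists_pt (k := Ω) (Y := Over.mk P₁) (y := w) (isClosed_discrete _)
    obtain ⟨t', zl, ht, hzh, hz1, hz2⟩ : ∃ (t' : Spec (CommRingCat.of Ω) ⟶ Spec (CommRingCat.of L))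
        (zl : Spec (CommRingCat.of Ω) ⟶ (Ext.up ρ J).left),
        t' ≫ ρ = t ∧ zl ≫ (Ext.up ρ J).hom = t' ∧ zl ≫ pr = z.left ∧ zl p = q := by
      have e1 : (s.left ≫ pullback.snd z.left pr) ≫ pr = z.left := by
        rw [Category.assoc, ← pullback.condition, ← Category.assoc,
          show s.left ≫ pullback.fst z.left pr = 𝟙 _ from Over.w s]
        exact Category.id_comp z.left
      refine ⟨(s.left ≫ pullback.snd z.left pr) ≫ (Ext.up ρ J).hom, s.left ≫ pullback.snd z.left pr, ?_, rfl, e1, ?_⟩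
      · show ((s.left ≫ pullback.snd z.left pr) ≫ pullback.snd J.hom ρ) ≫ ρ = t
        rw [Category.assoc (s.left ≫ pullback.snd z.left pr), ← pullback.condition, ← Category.assoc, e1]
        exact Over.w z
      · rw [← hw2, ← hs, Scheme.Hom.comp_apply]
        exact congrArg _ (congrArg s.left (Subsingleton.elim (α := PrimeSpectrum Ω) _ _))
    clear hs hw1 hw2 s w
    subst ht
    let z' : Over.mk t' ⟶ Ext.up ρ J := Over.homMk zl hzh
    have hz' : Ext.low ρ J z' = z := Over.OverMorphism.ext hz1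
    obtain ⟨hxi, hxd⟩ := (ok_iff f hdim 0 _ x).1 hx
    let x' : (PicF.XT (fL f ρ) (Over.mk t')).Modules := (Scheme.Modules.pullback (cmp f ρ (Over.mk t')).hom).obj x
    have hx'i : PicF.IsInvertible x' := PicClLib.isInvertible_pullback _ hxi
    have hback : PicF.pullCl (cmp f ρ (Over.mk t')).inv (PicF.cl x') = PicF.cl x := by
      show PicF.pullCl _ (PicF.pullCl _ (PicF.cl x)) = _
      rw [PicClLib.pullCl_comp, Iso.inv_hom_id]
      exact PicClLib.pullCl_id _
    have hx' : (ModFun.PicDeg (fL f ρ) 0).ok (Over.mk t') x' := (ok_iff (fL f ρ) hdimL 0 _ x').2 ⟨hx'i, fun u => by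
      rw [← deg0At_iff, ← deg0At_cmp f ρ ⟨x', rfl, hx'i⟩, hback, deg0At_iff]
      exact hxd u⟩
    have hval : (bcHom f ρ hdim hdimL ψ).app (Over.mk t') x' trivial hx' = z' := by
      refine Ext.low_injective ρ J ?_
      rw [low_bcHom, hz']
      refine ψ.resp _ x trivial _ hx ((r_iff f 0 _ _ _).2 ⟨1, ⟨_, rfl, PicLoc.isInvertible_structureModule _⟩, ?_⟩)
      rw [pullCl_one, _root_.mul_one]
      exact hback.symm
    refine ⟨Ω, inferInstance, inferInstance, t', trivial, x', hx',
      fun h => hH ((subsingleton_HH_cmp f ρ hN t' hxi hx'i rfl).2 h), p, ?_⟩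
    show ((bcHom f ρ hdim hdimL ψ).app (Over.mk t') x' trivial hx').left p = q
    rw [hval]
    exact hz2

include hN in
/-- the theta locus over the extension -/
theorem thetaLocus_bc :
    Jac.thetaLocus (fL f ρ) 0 (bcHom f ρ hdim hdimL ψ) ((Scheme.Modules.pullback (pullback.fst f ρ)).obj N) =
      pullback.fst J.hom ρ ⁻¹' Jac.thetaLocus f 0 ψ N := by
  rw [Jac.thetaLocus, jumpLocus_bc f ρ hdim hdimL ψ hN, Jac.thetaLocus]
  exact ((pullback.fst J.hom ρ).isOpenMap.preimage_closure_eq_closure_preimage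
    (pullback.fst J.hom ρ).continuous _).symm

include hN in
/-- the theta line bundle over a separable extension -/
theorem isThetaLB_bc [Etale ρ] {Θ : J.left.Modules} (hΘ : Jac.IsThetaLB f 0 ψ N Θ) :
    Jac.IsThetaLB (fL f ρ) 0 (bcHom f ρ hdim hdimL ψ) ((Scheme.Modules.pullback (pullback.fst f ρ)).obj N)
      ((Scheme.Modules.pullback (pullback.fst J.hom ρ)).obj Θ) := by
  let pr := pullback.fst J.hom ρ
  let S : Closeds J.left := ⟨Jac.thetaLocus f 0 ψ N, isClosed_closure⟩
  let SL : Closeds (Ext.up ρ J).left :=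
    ⟨Jac.thetaLocus (fL f ρ) 0 (bcHom f ρ hdim hdimL ψ) ((Scheme.Modules.pullback (pullback.fst f ρ)).obj N),
      isClosed_closure⟩
  let I := Scheme.IdealSheafData.vanishingIdeal S
  let ν := I.subschemeι
  haveI : Etale pr := inferInstance
  haveI : IsReduced I.subscheme := H23.RedSub.isReduced_vanishingIdeal S
  haveI : Etale (pullback.fst ν pr) := inferInstance
  haveI : IsReduced (pullback ν pr) := AlgSpDec.isReduced_of_etaleMor (pullback.fst ν pr)
  have hcomap : I.comap pr = Scheme.IdealSheafData.vanishingIdeal SL := by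
    rw [show I = ν.ker from (Scheme.IdealSheafData.ker_subschemeι I).symm, ← Groth.Agent.S4667.result ν pr]
    refine ThetaPull.ker_eq_vanishingIdeal _ SL ?_
    have : Set.range (pullback.snd ν pr) = (SL : Set (Ext.up ρ J).left) := by
      rw [Scheme.Pullback.range_snd]
      show pr ⁻¹' Set.range ν = Jac.thetaLocus (J := Ext.up ρ J) (fL f ρ) 0 (bcHom f ρ hdim hdimL ψ) _
      rw [thetaLocus_bc f ρ hdim hdimL ψ hN]
      refine congrArg (pr ⁻¹' ·) ?_
      rw [Scheme.IdealSheafData.range_subschemeι]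
      exact Scheme.IdealSheafData.coe_support_vanishingIdeal S
    exact (congrArg closure this).trans SL.isClosed.closure_eq
  have h0 : PicF.cl Θ * PicF.cl (ClSub.idealMod I) = 1 := (cl_eq_iff.2 hΘ.2).trans one_def.symm
  have hI : BlowUp.IsEffCartierIdeal I := by
    obtain ⟨D, hD, ⟨w⟩⟩ := H23.PicInv.exists_inverse hΘ.1
    have hw : PicF.cl Θ * PicF.cl D = 1 := cl_eq_iff.2 ⟨w⟩
    have : PicF.cl (ClSub.idealMod I) = PicF.cl D := by
      rw [← _root_.one_mul (PicF.cl (ClSub.idealMod _)), ← hw, mul_comm (PicF.cl Θ), _root_.mul_assoc, h0,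
        _root_.mul_one]
    obtain ⟨φ⟩ := cl_eq_iff.1 this.symm
    exact (S8914.result _).1 (isInvertible_of_iso φ hD)
  have h := ThetaPull.pullCl_mul_ideal pr hΘ.1 h0 (BlowUpLib.isEffCartier_comap_flat pr hI)
  rw [hcomap] at h
  exact ⟨PicClLib.isInvertible_pullback _ hΘ.1, cl_eq_iff.1 (h.trans one_def)⟩

end Groth.Agent.PicCurve.JacCoarse

end
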